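import Cfsg.Agent.Lib.Subspaces.OmegaGL
import Cfsg.Agent.Lib.K41.ExtForm.OfMatrix

/-!
A quadratic extension `K / F` acting self-adjointly on an orthogonal space in odd characteristic:
the symmetric `K`-form, its reflections as matrices over `F`, and which of them lie in `Ω`.
Eight-dimensional variant of `Lib/OrthExtTwo` (helper94). Owner: helper23.
-/

set_option autoImplicit false
set_option linter.unusedSectionVars false

namespace Cfsg.Agent.Lib.OmegaEight23.ExtTwo

open scoped commutatorElement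

open Matrix Module Cfsg.Agent.Lib.Subspaces.Transvection Cfsg.Agent.Lib.Subspaces.FormVec
  Cfsg.Agent.Lib.Subspaces.OrthForm Cfsg.Agent.Lib.Subspaces.OmegaGL Cfsg.Agent.Lib.K41.ExtForm

/-- The data: the `K`-form whose trace is the polar form of `Q`. -/
structure Setting (F K : Type*) (ι : Type) [Fintype ι] [DecidableEq ι] [Field F] [Field K]
    [Algebra F K] [Module K (ι → F)] where
  Q : (ι → F) → F
  hQ : Cfsg.Geo.IsNondegenerateQuadraticForm Q
  h : LinearMap.BilinForm K (ι → F)
  symm : ∀ x y, h x y = h y x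
  trace : ∀ x y, Algebra.trace F K (h x y) = QuadraticMap.polar Q x y
  two : (2 : F) ≠ 0
  degree : finrank F K = 2
  dim : finrank K (ι → F) = 4
  minus : ∀ U : Submodule F (ι → F), (∀ u ∈ U, Q u = 0) → finrank F U ≠ 4

variable {ι : Type} [Fintype ι] [DecidableEq ι] {F K : Type*} [Field F] [Field K] [Algebra F K]
  [Module K (ι → F)] [IsScalarTower F K (ι → F)] [Finite F] [Finite K]

local notation "V" => (ι → F)

namespace Setting

variable (S : Setting F K ι)

theorem card_ge (S : Setting F K ι) : 8 ≤ Fintype.card ι := by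
  haveI : FiniteDimensional K V := Module.Finite.of_finite
  have h := finrank_mul_finrank F K V
  rw [S.degree, finrank_fintype_fun_eq_card] at h
  have := S.dim
  omega

theorem twoK (S : Setting F K ι) : (2 : K) ≠ 0 := fun h =>
  S.two ((algebraMap F K).injective (by simpa [map_ofNat] using h))

theorem Q_eq (x : V) : 2 * S.Q x = Algebra.trace F K (S.h x x) := by
  rw [S.trace, B_self S.hQ]

theorem nondeg (x : V) (hx : ∀ y, S.h x y = 0) : x = 0 := by
  by_contra hne
  obtain ⟨-, y, hy⟩ := S.hQ.nondegenerate x hne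
  exact hy (by rw [← S.trace, hx, map_zero])

theorem nondegenerate : S.h.Nondegenerate :=
  ⟨fun x hx => S.nondeg x hx, fun x hx => S.nondeg x fun y => by rw [S.symm]; exact hx y⟩

theorem h_smul_self (c : K) (x : V) : S.h (c • x) (c • x) = c ^ 2 * S.h x x := by
  simp only [map_smul, LinearMap.smul_apply, smul_eq_mul]; ring

theorem h_add_self (x y : V) : S.h (x + y) (x + y) = S.h x x + 2 * S.h x y + S.h y y := by
  simp only [map_add, LinearMap.add_apply, S.symm y x]; ring

theorem Q_zero_of {x : V} (hx : Algebra.trace F K (S.h x x) = 0) : S.Q x = 0 :=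
  (mul_eq_zero.1 ((S.Q_eq x).trans hx)).resolve_left S.two

theorem ne_zero_of_Q {x : V} (hx : S.Q x ≠ 0) : S.h x x ≠ 0 := fun h0 =>
  hx (S.Q_zero_of (by rw [h0, map_zero]))

/-- The reflection of the `K`-space at `v` (the identity if `v` is singular). -/
noncomputable def rmap (v : V) : V →ₗ[K] V :=
  LinearMap.id - ((2 / S.h v v) • S.h.flip v).smulRight v

theorem rmap_apply (v x : V) : S.rmap v x = x - (2 / S.h v v * S.h x v) • v := by
  simp [rmap, LinearMap.BilinForm.flip_apply]

theorem rmap_rmap (v x : V) : S.rmap v (S.rmap v x) = x := by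
  rw [rmap_apply, rmap_apply, map_sub, LinearMap.sub_apply, map_smul, LinearMap.smul_apply,
    sub_sub, ← add_smul]
  conv_rhs => rw [← sub_zero x, ← zero_smul K v]
  congr 2
  rcases eq_or_ne (S.h v v) 0 with h0 | h0
  · rw [h0, div_zero]; simp
  · rw [smul_eq_mul]; field_simp; ring

/-- The reflection as an element of `GL ι F`. -/
noncomputable def refl (v : V) : GL ι F where
  val := LinearMap.toMatrix' ((S.rmap v).restrictScalars F)
  inv := LinearMap.toMatrix' ((S.rmap v).restrictScalars F)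
  val_inv := mat_ext' fun x => by
    rw [← Matrix.mulVec_mulVec, LinearMap.toMatrix'_mulVec, LinearMap.toMatrix'_mulVec, one_mulVec]
    exact S.rmap_rmap v x
  inv_val := mat_ext' fun x => by
    rw [← Matrix.mulVec_mulVec, LinearMap.toMatrix'_mulVec, LinearMap.toMatrix'_mulVec, one_mulVec]
    exact S.rmap_rmap v x

theorem refl_mulVec (v x : V) :
    (S.refl v : Matrix ι ι F) *ᵥ x = x - (2 / S.h v v * S.h x v) • v := by
  rw [← rmap_apply]
  exact LinearMap.toMatrix'_mulVec ((S.rmap v).restrictScalars F) x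

theorem refl_inv (v : V) : (S.refl v)⁻¹ = S.refl v := Units.ext rfl

theorem refl_lin (v : V) (c : K) (x : V) :
    (S.refl v : Matrix ι ι F) *ᵥ (c • x) = c • (S.refl v : Matrix ι ι F) *ᵥ x := by
  rw [refl_mulVec, refl_mulVec, ← rmap_apply, ← rmap_apply, map_smul]

theorem refl_h (v x y : V) :
    S.h ((S.refl v : Matrix ι ι F) *ᵥ x) ((S.refl v : Matrix ι ι F) *ᵥ y) = S.h x y := by
  rw [refl_mulVec, refl_mulVec]
  simp only [map_sub, LinearMap.sub_apply, map_smul, LinearMap.smul_apply, smul_eq_mul,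
    S.symm v y]
  rcases eq_or_ne (S.h v v) 0 with h0 | h0
  · rw [h0, div_zero]; ring
  · field_simp; ring

theorem refl_mem_iso (v : V) : S.refl v ∈ Cfsg.isometryGroup F S.Q := by
  intro x _
  refine mul_left_cancel₀ S.two ?_
  simp only [Units.coeHom_apply]
  rw [S.Q_eq, S.Q_eq, refl_h]

theorem commutator_mem_omega {a b : GL ι F} (ha : a ∈ Cfsg.isometryGroup F S.Q)
    (hb : b ∈ Cfsg.isometryGroup F S.Q) : ⁅a, b⁆ ∈ Cfsg.Geo.omegaGL S.Q :=
  ⟨⁅(⟨a, ha⟩ : Cfsg.isometryGroup F S.Q), ⟨b, hb⟩⁆,
    Subgroup.commutator_mem_commutator (Subgroup.mem_top _) (Subgroup.mem_top _),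
    map_commutatorElement _ _ _⟩

/-- The Siegel element of the `K`-space. -/
noncomputable def eich (u w : V) : GL ι F :=
  ⁅S.refl w, S.refl (w + (S.h w w / 4) • u)⁆

theorem eich_mem_omega (u w : V) : S.eich u w ∈ Cfsg.Geo.omegaGL S.Q :=
  S.commutator_mem_omega (S.refl_mem_iso _) (S.refl_mem_iso _)

theorem eich_lin (u w : V) (c : K) (x : V) :
    (S.eich u w : Matrix ι ι F) *ᵥ (c • x) = c • (S.eich u w : Matrix ι ι F) *ᵥ x := by
  rw [eich, commutatorElement_def, refl_inv, refl_inv]
  simp only [gl_mul_mulVec, refl_lin]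

theorem eich_mulVec {u w : V} (hu : S.h u u = 0) (huw : S.h u w = 0) (hw : S.h w w ≠ 0) (x : V) :
    (S.eich u w : Matrix ι ι F) *ᵥ x =
      x + S.h x u • w - (S.h x w + S.h w w / 2 * S.h x u) • u := by
  set c := S.h w w / 4 with hc
  have hwu : S.h w u = 0 := (S.symm w u).trans huw
  have hw' : S.h (w + c • u) (w + c • u) = S.h w w := by
    rw [h_add_self, h_smul_self, map_smul, hwu, hu]; simp
  have h4 : (4 : K) ≠ 0 := by
    rw [show (4 : K) = 2 * 2 by norm_num]; exact mul_ne_zero S.twoK S.twoK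
  have key : ∀ z, (S.refl w : Matrix ι ι F) *ᵥ ((S.refl (w + c • u) : Matrix ι ι F) *ᵥ z) =
      z + (S.h z u / 2) • w - (S.h z w / 2 + S.h w w / 8 * S.h z u) • u := by
    intro z
    rw [refl_mulVec, refl_mulVec, hw']
    simp only [map_add, map_sub, map_smul, LinearMap.add_apply, LinearMap.sub_apply,
      LinearMap.smul_apply, smul_eq_mul, huw, hc]
    have h2 := S.twoK
    have h8 : (8 : K) ≠ 0 := by
      rw [show (8 : K) = 2 * 2 * 2 by norm_num]; exact mul_ne_zero (mul_ne_zero h2 h2) h2
    match_scalars <;> field_simp <;> ring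
  rw [eich, commutatorElement_def, refl_inv, refl_inv, gl_mul_mulVec, gl_mul_mulVec, gl_mul_mulVec,
    key, key]
  simp only [map_add, map_sub, map_smul, LinearMap.add_apply, LinearMap.sub_apply,
      LinearMap.smul_apply, smul_eq_mul, huw, hu, hwu]
  have h2 := S.twoK
  have h8 : (8 : K) ≠ 0 := by
    rw [show (8 : K) = 2 * 2 * 2 by norm_num]; exact mul_ne_zero (mul_ne_zero h2 h2) h2
  match_scalars <;> field_simp <;> ring

/-- A trace-zero element spanning the trace-zero line, with square in `F`. -/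
theorem exists_theta (S : Setting F K ι) : ∃ θ : K, Algebra.trace F K θ = 0 ∧
    θ ∉ Set.range (algebraMap F K) ∧ (∀ c, ∃ a b : F, c = a • (1 : K) + b • θ) ∧
    ∃ δ : F, θ * θ = algebraMap F K δ := by
  haveI : FiniteDimensional F K := Module.Finite.of_finite
  obtain ⟨c, hc⟩ := exists_not_range (F := F) (K := K) (S.degree.symm ▸ Nat.prime_two)
  set θ := c - algebraMap F K (Algebra.trace F K c / 2)
  haveI : NeZero (2 : F) := ⟨S.two⟩
  have htr : Algebra.trace F K θ = 0 := by
    rw [map_sub, Algebra.trace_algebraMap, S.degree, two_nsmul, add_halves, sub_self]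
  have hθ : θ ∉ Set.range (algebraMap F K) := by
    rintro ⟨a, ha⟩
    exact hc ⟨a + Algebra.trace F K c / 2, by rw [map_add, ha, sub_add_cancel]⟩
  have hli : LinearIndependent F ![(1 : K), θ] := by
    rw [LinearIndependent.pair_iff' one_ne_zero]
    intro a ha
    exact hθ ⟨a, by rw [← ha, Algebra.smul_def, mul_one]⟩
  let b := basisOfLinearIndependentOfCardEqFinrank hli (by simp [S.degree])
  have hb : ⇑b = ![(1 : K), θ] := coe_basisOfLinearIndependentOfCardEqFinrank _ _
  have hall : ∀ x, ∃ a b : F, x = a • (1 : K) + b • θ := fun x =>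
    ⟨b.repr x 0, b.repr x 1, by
      conv_lhs => rw [← b.sum_repr x]
      simp [Fin.sum_univ_two, hb]⟩
  refine ⟨θ, htr, hθ, hall, ?_⟩
  have hm := Algebra.trace_eq_matrix_trace b θ
  obtain ⟨a, e, hae⟩ := hall (θ * θ)
  have h1 : θ * b 0 = (0 : F) • b 0 + (1 : F) • b 1 := by simp [hb]
  have h2 : θ * b 1 = a • b 0 + e • b 1 := by simpa [hb] using hae
  rw [htr, Matrix.trace_fin_two, Algebra.leftMulMatrix_eq_repr_mul,
    Algebra.leftMulMatrix_eq_repr_mul, h1, h2] at hm
  simp at hm
  exact ⟨a, by rw [hae, ← hm, zero_smul, add_zero, Algebra.smul_def, mul_one]⟩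

/-- A scalar `η` whose lines carry two orthogonal vectors of equal value. -/
theorem exists_kappa (S : Setting F K ι) : ∃ κ η : K, Algebra.trace F K η ≠ 0 ∧
    Algebra.trace F K (κ * η) = 0 ∧ Algebra.trace F K (κ ^ 2 * η) = Algebra.trace F K η ∧
    ∀ c, ∃ a b : F, c = a • (1 : K) + b • κ := by
  obtain ⟨θ, htr, hθ, hall, δ, hδ⟩ := S.exists_theta
  have := Fintype.ofFinite F
  have hns : ∀ r : F, r * r ≠ δ := by
    intro r hr
    rcases mul_self_eq_mul_self_iff.1 (show θ * θ = algebraMap F K r * algebraMap F K r by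
      rw [hδ, ← map_mul, hr]) with e | e
    · exact hθ ⟨r, e.symm⟩
    · exact hθ ⟨-r, by rw [map_neg, e]⟩
  obtain ⟨a, e, hae⟩ : ∃ a e : F, a * a + e * e = δ := by
    have hc : ringChar F ≠ 2 := fun e => S.two (by
      have : CharP F 2 := ringChar.eq_iff.mp e
      exact_mod_cast CharP.cast_eq_zero F 2)
    open Polynomial in
    obtain ⟨a, b, h⟩ := FiniteField.exists_root_sum_quadratic (f := (X ^ 2 : F[X]))
      (g := X ^ 2 - C δ) (degree_X_pow 2) (degree_X_pow_sub_C (by decide) _)
      (FiniteField.odd_card_of_char_ne_two hc)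
    refine ⟨a, b, ?_⟩
    simp at h
    linear_combination h
  have ha : a ≠ 0 := fun h0 => hns e (by rw [← hae, h0]; ring)
  have hδ0 : δ ≠ 0 := fun h0 => hns 0 (by rw [h0, mul_zero])
  set t := a⁻¹
  set s := e * t
  have hst : δ * t ^ 2 - s ^ 2 = 1 := by
    rw [← hae]; simp only [t, s]; field_simp; ring
  set A := algebraMap F K
  set κ := A s + A t * θ with hκ
  set η := A (t * δ) - A s * θ with hη
  have htrA : ∀ x : F, Algebra.trace F K (A x) = 2 * x := fun x => by
    rw [Algebra.trace_algebraMap, S.degree, two_nsmul, two_mul]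
  have htrθ : ∀ x : F, Algebra.trace F K (A x * θ) = 0 := fun x => by
    rw [← Algebra.smul_def, map_smul, htr, smul_zero]
  have hηtr : Algebra.trace F K η = 2 * (t * δ) := by
    rw [hη, map_sub, htrA, htrθ, sub_zero]
  have hκη : κ * η = A (s * (t * δ) - t * s * δ) + A (t * t * δ - s * s) * θ := by
    rw [hκ, hη]; simp only [map_sub, map_mul]
    linear_combination (-(A t * A s)) * hδ
  have hκη0 : Algebra.trace F K (κ * η) = 0 := by
    rw [hκη, map_add, htrA, htrθ]; ring
  have hκ2 : κ ^ 2 = 1 + A (2 * s) * κ := by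
    have h1 : A t * A t * A δ - A s * A s = 1 := by
      rw [← map_mul, ← map_mul, ← map_mul, ← map_sub, ← map_one A]; congr 1; linear_combination hst
    rw [hκ]; simp only [map_mul, map_ofNat]
    linear_combination h1 + (A t * A t) * hδ
  refine ⟨κ, η, hηtr ▸ mul_ne_zero S.two (mul_ne_zero (inv_ne_zero ha) hδ0), hκη0, ?_, ?_⟩
  · rw [hκ2, add_mul, one_mul, mul_assoc, map_add, ← Algebra.smul_def, map_smul, hκη0, smul_zero,
      add_zero]
  · intro c
    obtain ⟨p, r, rfl⟩ := hall c
    refine ⟨p - r * a * s, r * a, ?_⟩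
    simp only [Algebra.smul_def, mul_one, hκ, map_sub, map_mul]
    have : A a * A t = 1 := by rw [← map_mul, mul_inv_cancel₀ ha, map_one]
    linear_combination (-(A r * θ)) * this

/-- The `F`-reflection at `p` (the identity if `Q p = 0`). -/
noncomputable def fmap (p : V) : V →ₗ[F] V :=
  LinearMap.id - ((S.Q p)⁻¹ •
    ({ toFun := fun x => QuadraticMap.polar S.Q x p
       map_add' := fun x y => S.hQ.polar_bilinear.add_left x y p
       map_smul' := fun c x => S.hQ.polar_bilinear.smul_left c x p } : (ι → F) →ₗ[F] F)).smulRight p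

theorem fmap_apply (p x : V) :
    S.fmap p x = x - ((S.Q p)⁻¹ * QuadraticMap.polar S.Q x p) • p := by
  simp [fmap]

theorem fmap_fmap (p x : V) : S.fmap p (S.fmap p x) = x := by
  rw [fmap_apply, fmap_apply, form_sub_left (bil S.hQ), S.hQ.polar_bilinear.smul_left,
    B_self S.hQ, sub_sub, ← add_smul]
  conv_rhs => rw [← sub_zero x, ← zero_smul F p]
  congr 2
  rcases eq_or_ne (S.Q p) 0 with h0 | h0
  · rw [h0, _root_.inv_zero]; ring
  · field_simp; ring

/-- The `F`-reflection as an element of `GL ι F`. -/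
noncomputable def frefl (p : V) : GL ι F where
  val := LinearMap.toMatrix' (S.fmap p)
  inv := LinearMap.toMatrix' (S.fmap p)
  val_inv := mat_ext' fun x => by
    rw [← Matrix.mulVec_mulVec, LinearMap.toMatrix'_mulVec, LinearMap.toMatrix'_mulVec, one_mulVec]
    exact S.fmap_fmap p x
  inv_val := mat_ext' fun x => by
    rw [← Matrix.mulVec_mulVec, LinearMap.toMatrix'_mulVec, LinearMap.toMatrix'_mulVec, one_mulVec]
    exact S.fmap_fmap p x

theorem frefl_mulVec (p x : V) : (S.frefl p : Matrix ι ι F) *ᵥ x =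
    x - ((S.Q p)⁻¹ * QuadraticMap.polar S.Q x p) • p := by
  rw [← fmap_apply]
  exact LinearMap.toMatrix'_mulVec (S.fmap p) x

theorem frefl_inv (p : V) : (S.frefl p)⁻¹ = S.frefl p := Units.ext rfl

theorem frefl_mem_iso (p : V) : S.frefl p ∈ Cfsg.isometryGroup F S.Q := by
  intro x _
  simp only [Units.coeHom_apply]
  rw [frefl_mulVec, sub_eq_add_neg, ← neg_smul, Q_add_smul S.hQ]
  rcases eq_or_ne (S.Q p) 0 with h0 | h0
  · rw [h0, _root_.inv_zero]; ring
  · field_simp; ring

/-- The reflection at a vector of value `η` lies in `Ω`. -/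
theorem refl_mem_omega {κ η : K} (hη : Algebra.trace F K η ≠ 0)
    (hκη : Algebra.trace F K (κ * η) = 0)
    (hκ2 : Algebra.trace F K (κ ^ 2 * η) = Algebra.trace F K η)
    (hall : ∀ c, ∃ a b : F, c = a • (1 : K) + b • κ)
    {v : V} (hv : S.h v v = η) : S.refl v ∈ Cfsg.Geo.omegaGL S.Q := by
  have hQv : 2 * S.Q v = Algebra.trace F K η := by rw [S.Q_eq, hv]
  have hQv0 : S.Q v ≠ 0 := fun h0 => hη (by rw [← hQv, h0, mul_zero])
  have hQk : S.Q (κ • v) = S.Q v := mul_left_cancel₀ S.two (by rw [S.Q_eq, h_smul_self, hv, hκ2, hQv])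
  have hBvk : QuadraticMap.polar S.Q v (κ • v) = 0 := by
    rw [← S.trace, map_smul, hv, smul_eq_mul, hκη]
  have hQd : S.Q (v - κ • v) = 2 * S.Q v := by
    rw [sub_eq_add_neg, ← neg_one_smul F (κ • v), Q_add_smul S.hQ, hBvk, hQk]; ring
  have hsw : ∀ z, (S.frefl (v - κ • v) : Matrix ι ι F) *ᵥ z =
      z - ((2 * S.Q v)⁻¹ * (QuadraticMap.polar S.Q z v - QuadraticMap.polar S.Q z (κ • v))) •
        (v - κ • v) := fun z => by rw [frefl_mulVec, hQd, sub_right S.hQ]
  have heq : ⁅S.frefl v, S.frefl (v - κ • v)⁆ = S.refl v := by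
    refine gl_ext fun x => ?_
    rw [commutatorElement_def, frefl_inv, frefl_inv, gl_mul_mulVec, gl_mul_mulVec, gl_mul_mulVec,
      refl_mulVec, hv]
    obtain ⟨a, b, hab⟩ := hall (S.h x v / η)
    have hη0 : η ≠ 0 := fun h0 => hη (by rw [h0, map_zero])
    have hxv : S.h x v = a • η + b • (κ * η) := by
      rw [← div_mul_cancel₀ (S.h x v) hη0, hab, add_mul, smul_mul_assoc, one_mul, smul_mul_assoc]
    have h1 : QuadraticMap.polar S.Q x v = a * (2 * S.Q v) := by
      rw [← S.trace, hxv, map_add, map_smul, map_smul, hκη, hQv, smul_zero, add_zero, smul_eq_mul]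
    have h2 : QuadraticMap.polar S.Q x (κ • v) = b * (2 * S.Q v) := by
      rw [← S.trace, map_smul, hxv, smul_eq_mul, mul_add, mul_smul_comm, mul_smul_comm, map_add,
        map_smul, map_smul, hκη, ← mul_assoc κ κ η, ← pow_two, hκ2, hQv, smul_zero, zero_add,
        smul_eq_mul]
    rw [show (2 / η * S.h x v) • v = ((2 * a) • v + (2 * b) • κ • v) by
      rw [div_mul_eq_mul_div, mul_div_assoc, hab, mul_add, add_smul, mul_smul_comm, mul_smul_comm,
        mul_one, smul_assoc, smul_assoc, mul_smul (2 : K) κ v]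
      simp only [← algebraMap_smul K (2 * a), ← algebraMap_smul K (2 * b), map_mul, map_ofNat,
        ← algebraMap_smul K a, ← algebraMap_smul K b, smul_smul]
      module]
    simp only [hsw, frefl_mulVec, form_sub_left (bil S.hQ), sub_right S.hQ,
      S.hQ.polar_bilinear.smul_left, B_self S.hQ, hBvk, B_comm (κ • v) v, hQk, h1, h2]
    have hA : (algebraMap F K (S.Q v)) ≠ 0 := (_root_.map_ne_zero _).2 hQv0
    have hB : (algebraMap F K 2) ≠ 0 := (_root_.map_ne_zero _).2 S.two
    match_scalars <;> field_simp <;> ring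
  rw [← heq]
  exact S.commutator_mem_omega (S.frefl_mem_iso _) (S.frefl_mem_iso _)

/-- A value carrying two orthogonal `F`-vectors of equal norm is not a square. -/
theorem not_square_of {k η : K} (hη : Algebra.trace F K η ≠ 0)
    (hk : Algebra.trace F K (k * η) = 0)
    (hk2 : Algebra.trace F K (k ^ 2 * η) = Algebra.trace F K η) (S : Setting F K ι) :
    ¬ IsSquare η := by
  rintro ⟨d, rfl⟩
  obtain ⟨θ, htr, hθ, hall, δ, hδ⟩ := S.exists_theta
  have htrA : ∀ x : F, Algebra.trace F K (algebraMap F K x) = 2 * x := fun x => by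
    rw [Algebra.trace_algebraMap, S.degree, two_nsmul, two_mul]
  have hT : ∀ a b c e : F, Algebra.trace F K ((a • (1 : K) + b • θ) * (c • (1 : K) + e • θ)) =
      2 * (a * c + δ * (b * e)) := fun a b c e => by
    rw [show (a • (1 : K) + b • θ) * (c • (1 : K) + e • θ) =
      algebraMap F K (a * c + δ * (b * e)) + (a * e + b * c) • θ by
        simp only [Algebra.smul_def, mul_one, map_add, map_mul]
        linear_combination (algebraMap F K b * algebraMap F K e) * hδ,
      map_add, htrA, map_smul, htr, smul_zero, add_zero]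
  obtain ⟨a, b, hd⟩ := hall d
  obtain ⟨c, e, hr⟩ := hall (k * d)
  have h0 : a * c + δ * (b * e) = 0 := by
    have h := hT a b c e
    rw [← hd, ← hr, show d * (k * d) = k * (d * d) by ring, hk] at h
    exact (mul_eq_zero.1 h.symm).resolve_left S.two
  have hN : Algebra.trace F K (d * d) = 2 * (a * a + δ * (b * b)) := by rw [hd, hT]
  have h1 : c * c + δ * (e * e) = a * a + δ * (b * b) := by
    have h := hT c e c e
    rw [← hr, show k * d * (k * d) = k ^ 2 * (d * d) by ring, hk2, hN] at h
    exact mul_left_cancel₀ S.two h.symm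
  have hN0 : a * a + δ * (b * b) ≠ 0 := fun h => hη (by rw [hN, h, mul_zero])
  have hX : δ * (a * e - b * c) ^ 2 = (a * a + δ * (b * b)) ^ 2 := by
    linear_combination (a * a + δ * (b * b)) * h1 - (a * c + δ * (b * e)) * h0
  have hX0 : a * e - b * c ≠ 0 := fun h => hN0 (pow_eq_zero_iff two_ne_zero |>.1
    (by rw [← hX, h]; ring))
  have hr' : δ = ((a * a + δ * (b * b)) / (a * e - b * c)) ^ 2 := by
    rw [div_pow, eq_div_iff (pow_ne_zero 2 hX0), hX]
  set r := (a * a + δ * (b * b)) / (a * e - b * c)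
  rcases mul_self_eq_mul_self_iff.1 (show θ * θ = algebraMap F K r * algebraMap F K r by
      rw [hδ, ← map_mul, ← pow_two, ← hr']) with e' | e'
  · exact hθ ⟨r, e'.symm⟩
  · exact hθ ⟨-r, by rw [map_neg, e']⟩

theorem refl_smul {c : K} (hc : c ≠ 0) (v : V) : S.refl (c • v) = S.refl v := gl_ext fun x => by
  rw [refl_mulVec, refl_mulVec, h_smul_self, map_smul, smul_eq_mul, smul_smul]
  rcases eq_or_ne (S.h v v) 0 with h0 | h0
  · rw [h0, mul_zero, div_zero]; simp
  · congr 2
    field_simp

/-- Two reflections at vectors of one value compose to an element of `Ω`. -/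
theorem refl_pair_mem_omega {y r : V} (hyr : S.h r r = S.h y y) (hy : S.h y y ≠ 0)
    (hd : S.h (y - r) (y - r) ≠ 0) : S.refl y * S.refl r ∈ Cfsg.Geo.omegaGL S.Q := by
  set d := y - r with hd'
  have hval : S.h d d = 2 * S.h y d := by
    simp only [hd', map_sub, LinearMap.sub_apply, S.symm r y]
    linear_combination hyr
  have hdy : (S.refl d : Matrix ι ι F) *ᵥ y = r := by
    rw [refl_mulVec, hval]
    rw [hval] at hd
    have hyd : S.h y d ≠ 0 := (mul_ne_zero_iff.1 hd).2
    rw [show 2 / (2 * S.h y d) * S.h y d = (1 : K) by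
      have := S.twoK
      field_simp, one_smul, hd', sub_sub_cancel]
  have hconj : S.refl d * S.refl y * S.refl d = S.refl r := gl_ext fun x => by
    have h1 : S.h ((S.refl d : Matrix ι ι F) *ᵥ x) y = S.h x r := by
      rw [← hdy]
      conv_rhs => rw [← S.refl_h d, ← gl_mul_mulVec, show S.refl d * S.refl d = 1 by
        conv_lhs => arg 1; rw [← S.refl_inv d]
        exact inv_mul_cancel _, Units.val_one, one_mulVec]
    rw [gl_mul_mulVec, gl_mul_mulVec, S.refl_mulVec y, S.refl_mulVec r, h1, hyr, mulVec_sub,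
      S.refl_lin, hdy, ← gl_mul_mulVec, show S.refl d * S.refl d = 1 by
        conv_lhs => arg 1; rw [← S.refl_inv d]
        exact inv_mul_cancel _, Units.val_one, one_mulVec]
  rw [← hconj, show S.refl y * (S.refl d * S.refl y * S.refl d) = ⁅S.refl y, S.refl d⁆ by
    rw [commutatorElement_def, refl_inv, refl_inv]; group]
  exact S.commutator_mem_omega (S.refl_mem_iso _) (S.refl_mem_iso _)

end Setting

end Cfsg.Agent.Lib.OmegaEight23.ExtTwo
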