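import Cfsg.Agent.Lib.OmegaEight23.ExtTwo.Space

/-!
An element respecting the lines of all vectors of one non-zero value is semilinear.
Eight-dimensional variant of `Lib/OrthExtTwo` (helper94). Owner: helper23.
-/

set_option autoImplicit false
set_option linter.unusedSectionVars false

namespace Cfsg.Agent.Lib.OmegaEight23.ExtTwo

open Matrix Module Cfsg.Agent.Lib.Subspaces.Transvection

variable {ι : Type} [Fintype ι] [DecidableEq ι] {F K : Type*} [Field F] [Field K] [Algebra F K]
  [Module K (ι → F)] [IsScalarTower F K (ι → F)] [Finite F] [Finite K]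

local notation "V" => (ι → F)

/-- Semilinearity for the extension. -/
def Semi (K : Type*) [Field K] [Module K (ι → F)] (g : GL ι F) : Prop :=
  ∀ c : K, ∃ d : K, ∀ x : ι → F, (g : Matrix ι ι F) *ᵥ (c • x) = d • (g : Matrix ι ι F) *ᵥ x

namespace Setting

variable (S : Setting F K ι)

theorem semi_of_lines {κ η : K} (hη : η ≠ 0) (hall : ∀ c, ∃ a b : F, c = a • (1 : K) + b • κ)
    (g : GL ι F)
    (hlines : ∀ v, S.h v v = η → ∃ e : K,
      (g : Matrix ι ι F) *ᵥ (κ • v) = e • (g : Matrix ι ι F) *ᵥ v) :
    Semi K g := by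
  classical
  obtain ⟨θ, -, hθ, hallθ, -⟩ := S.exists_theta
  have hθ0 : θ ≠ 0 := fun h => hθ ⟨0, by rw [h, map_zero]⟩
  set G : V → V := fun x => (g : Matrix ι ι F) *ᵥ x with hG
  set T : V → V := fun x => ((g⁻¹ : GL ι F) : Matrix ι ι F) *ᵥ (θ • G x) with hT
  have Tadd : ∀ x y, T (x + y) = T x + T y := fun x y => by
    simp only [hT, hG, mulVec_add, smul_add]
  have Tsmul : ∀ (a : F) x, T (a • x) = a • T x := fun a x => by
    simp only [hT, hG, mulVec_smul, smul_comm θ a]
  have hne : ∀ v, S.h v v = η → v ≠ 0 := fun v hv h0 => hη (by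
    rw [← hv, h0]; simp)
  have hline : ∀ v, S.h v v = η → ∀ c : K, ∃ d : K, T (c • v) = d • v := by
    intro v hv c
    obtain ⟨e, he⟩ := hlines v hv
    have hgv : ∀ c : K, ∃ d : K, G (c • v) = d • G v := fun c => by
      obtain ⟨a, b, rfl⟩ := hall c
      refine ⟨a • (1 : K) + b • e, ?_⟩
      simp only [hG, add_smul, smul_assoc, one_smul, mulVec_add, mulVec_smul, he]
    choose φ hφ using hgv
    have hinj : Function.Injective φ := fun c c' h => by
      have h1 : G (c • v) = G (c' • v) := by rw [hφ, hφ, h]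
      exact smul_left_injective K (hne v hv) (gl_mulVec_injective g h1)
    obtain ⟨d, hd⟩ := Finite.injective_iff_surjective.1 hinj (θ * φ c)
    refine ⟨d, ?_⟩
    have h2 : θ • G (c • v) = G (d • v) := by rw [hφ, hφ, hd, mul_smul]
    simp only [hT, h2]
    exact gl_inv_mulVec g _
  choose A hA using hline
  -- the relation between two vectors of value `η`
  have hrel : ∀ v u (hv : S.h v v = η) (hu : S.h u u = η), S.h u v = -(θ * η) / 2 →
      (∀ e : K, u ≠ e • v) ∧ ∀ c, A v hv (c * θ) = θ * A u hu c := by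
    intro v u hv hu huv
    have hind : ∀ e : K, u ≠ e • v := by
      rintro e rfl
      rw [map_smul, LinearMap.smul_apply, hv, smul_eq_mul] at huv
      rw [S.h_smul_self, hv] at hu
      have he : e = -θ / 2 := mul_right_cancel₀ hη (by rw [huv]; ring)
      have he2 : e ^ 2 = 1 := mul_right_cancel₀ hη (by rw [hu, one_mul])
      have h4 : θ * θ = 2 * 2 := by
        have h2 := S.twoK
        rw [he] at he2
        field_simp at he2
        linear_combination he2
      rcases mul_self_eq_mul_self_iff.1 h4 with h | h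
      · exact hθ ⟨2, by rw [h, map_ofNat]⟩
      · exact hθ ⟨-2, by rw [h, map_neg, map_ofNat]⟩
    refine ⟨hind, fun c => ?_⟩
    have hw : S.h (θ • v + u) (θ • v + u) = η := by
      rw [S.h_add_self, S.h_smul_self, hv, hu, map_smul, LinearMap.smul_apply, S.symm v u, huv,
        smul_eq_mul]
      have h2 := S.twoK
      field_simp; ring
    have h := hA _ hw c
    rw [smul_add, smul_smul, Tadd, hA v hv, hA u hu, smul_add, smul_smul] at h
    set d := A _ hw c
    have h1 : (A v hv (c * θ) - d * θ) • v = (d - A u hu c) • u := by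
      rw [sub_smul, sub_smul, sub_eq_sub_iff_add_eq_add, h]; abel
    by_cases h3 : d - A u hu c = 0
    · rw [h3, zero_smul, smul_eq_zero] at h1
      rw [sub_eq_zero.1 (h1.resolve_right (hne v hv)), sub_eq_zero.1 h3, mul_comm]
    · refine absurd ?_ (hind ((A v hv (c * θ) - d * θ) / (d - A u hu c)))
      rw [div_eq_inv_mul, mul_smul, h1, inv_smul_smul₀ h3]
  have hindep : ∀ v (hv : S.h v v = η) w (hw : S.h w w = η), (∀ e : K, w ≠ e • v) →
      ∀ c, A v hv c = A w hw c := by
    have hstep : ∀ v (hv : S.h v v = η) w (hw : S.h w w = η), (∀ e : K, w ≠ e • v) →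
        S.h w v ≠ η → ∀ c, A v hv c = A w hw c := by
      intro v hv w hw hwv hne' c
      obtain ⟨u, huv, huw, huu⟩ := S.exists_pair (hv ▸ hη) hwv (-(θ * η) / 2) (-(θ * η) / 2) η
        (Or.inr fun h => by
          have h2 := S.twoK
          rw [hv] at h
          refine hne' ?_
          field_simp at h
          linear_combination h)
      have h1 := (hrel v u hv huu huv).2 (c / θ)
      have h2 := (hrel w u hw huu huw).2 (c / θ)
      rw [div_mul_cancel₀ c hθ0] at h1 h2
      rw [h1, h2]
    intro v hv w hw hwv c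
    by_cases hwη : S.h w v = η
    swap
    · exact hstep v hv w hw hwv hwη c
    have h2 := S.twoK
    obtain ⟨u, huv, huw, huu⟩ := S.exists_pair (hv ▸ hη) hwv 0 (-η) η
      (Or.inr (by rw [mul_zero]; exact neg_ne_zero.2 hη))
    have hη2 : -η ≠ η := fun h => hη
      ((mul_eq_zero.1 (show (2 : K) * η = 0 by linear_combination -h)).resolve_left h2)
    have huv' : ∀ e : K, u ≠ e • v := by
      rintro e rfl
      rw [map_smul, LinearMap.smul_apply, hv, smul_eq_mul] at huv
      rw [(mul_eq_zero.1 huv).resolve_right hη, zero_smul] at huu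
      exact hη (by rw [← huu]; simp)
    have hwu' : ∀ e : K, w ≠ e • u := by
      rintro e rfl
      rw [map_smul, LinearMap.smul_apply, huv, smul_zero] at hwη
      exact hη hwη.symm
    rw [hstep v hv u huu huv' (by rw [huv]; exact fun h => hη h.symm) c,
      hstep u huu w hw hwu' (by rw [S.symm w u, huw]; exact hη2) c]
  haveI : FiniteDimensional K V := Module.Finite.of_finite
  have hd := S.dim
  have hlam : ∀ v (hv : S.h v v = η) (c : K), T (c • v) = (c * A v hv 1) • v := by
    intro v hv c
    obtain ⟨u, hu1, -, huu⟩ := S.exists_value ![v] (![] : Fin 0 → V)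
      (fun p r h => absurd (Subsingleton.elim p r) h) (fun p => by fin_cases p; exact hv ▸ hη)
      (by omega) ((-θ / 2) • v) η
    have huv : S.h u v = -(θ * η) / 2 := (hu1 0).trans (by
      show S.h ((-θ / 2) • v) v = _
      rw [map_smul, LinearMap.smul_apply, hv, smul_eq_mul]; ring)
    obtain ⟨hind, hθA⟩ := hrel v u hv huu huv
    have hcomm : ∀ c, A v hv (c * θ) = θ * A v hv c := fun c => by
      rw [hθA, hindep v hv u huu hind]
    have hlin : ∀ (a b : F) (x y : K), A v hv (a • x + b • y) = a • A v hv x + b • A v hv y := by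
      intro a b x y
      refine smul_left_injective K (hne v hv) ?_
      show A v hv _ • v = (_ : K) • v
      rw [← hA, add_smul, add_smul, smul_assoc, smul_assoc, Tadd, Tsmul, Tsmul, hA v hv, hA v hv,
        smul_assoc, smul_assoc]
    obtain ⟨a, b, rfl⟩ := hallθ c
    rw [hA v hv, hlin, ← one_mul θ, hcomm, add_mul, smul_mul_assoc, smul_mul_assoc]
    simp
  obtain ⟨v0, -, -, hv0⟩ := S.exists_value (![] : Fin 0 → V) (![] : Fin 0 → V) (fun p => p.elim0)
    (fun p => p.elim0) (by omega) 0 η
  set lam := A v0 hv0 1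
  have hX : ∀ v, S.h v v = η → ∀ c : K, T (c • v) = (c * lam) • v := by
    intro v hv c
    by_cases hdep : ∀ e : K, v ≠ e • v0
    · rw [hlam v hv, ← hindep v0 hv0 v hv hdep 1]
    · push Not at hdep
      obtain ⟨e, rfl⟩ := hdep
      rw [smul_smul, hlam v0 hv0, smul_smul, mul_right_comm]
  have hTall : ∀ x, T x = lam • x := by
    intro x
    have hperp0 : ∀ y, S.h y v0 = 0 → S.h y y ≠ 0 → T y = lam • y := by
      intro y hy hyy
      have hy0 : y ≠ 0 := fun h => hyy (by rw [h]; simp)
      have hyv : ∀ e : K, y ≠ e • v0 := by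
        rintro e rfl
        rw [map_smul, LinearMap.smul_apply, hv0, smul_eq_mul] at hy
        exact hy0 (by rw [(mul_eq_zero.1 hy).resolve_right hη, zero_smul])
      obtain ⟨u, -, huy, huu⟩ := S.exists_pair (hv0 ▸ hη) hyv 0 (-(S.h y y) / 2) η
        (Or.inl (by rw [hy, zero_pow two_ne_zero, hv0]; exact mul_ne_zero hyy hη))
      have huy' : S.h (u + y) (u + y) = η := by
        rw [S.h_add_self, huu, huy]
        have h2 := S.twoK
        field_simp; ring
      have h1 := hX _ huy' 1
      have h2 := hX u huu 1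
      rw [one_smul, one_mul] at h1 h2
      rw [Tadd, h2, smul_add] at h1
      exact add_left_cancel h1
    have hperp : ∀ y, S.h y v0 = 0 → T y = lam • y := by
      intro y hy
      by_cases hyy : S.h y y = 0
      swap
      · exact hperp0 y hy hyy
      obtain ⟨r, hr, hrv, hry⟩ := S.exists_aniso ![v0] ![y]
        (fun p q h => absurd (Subsingleton.elim p q) h) (fun p => by fin_cases p; exact hv0 ▸ hη)
        (by omega)
      have hry' : S.h r y = 0 := hry 0
      have hrv' : S.h r v0 = 0 := hrv 0
      have h1 := hperp0 (y + r) (by rw [map_add, LinearMap.add_apply, hy, hrv', add_zero])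
        (by rw [S.h_add_self, hyy, S.symm y r, hry']; simpa using hr)
      rw [Tadd, hperp0 r hrv' hr, smul_add] at h1
      exact add_right_cancel h1
    have hdec : x = (S.h x v0 / η) • v0 + (x - (S.h x v0 / η) • v0) := by abel
    rw [hdec, Tadd, hX v0 hv0, hperp _ (by
      simp only [map_sub, map_smul, LinearMap.sub_apply, LinearMap.smul_apply, smul_eq_mul, hv0]
      field_simp; ring), smul_add, smul_smul, mul_comm]
  have hgl : ∀ x, G (lam • x) = θ • G x := fun x => by
    rw [← hTall x]; simp only [hT, hG]; exact gl_mulVec_inv g _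
  obtain ⟨p, r, hlamθ⟩ := hallθ lam
  have hr : r ≠ 0 := by
    rintro rfl
    rw [zero_smul, add_zero] at hlamθ
    obtain ⟨w, hw⟩ : ∃ w, G w ≠ 0 := ⟨v0, fun h => hne v0 hv0 (gl_mulVec_injective g (by
      simpa [hG] using h))⟩
    have h := hgl w
    rw [hlamθ, smul_assoc, one_smul] at h
    simp only [hG, mulVec_smul] at h
    refine hθ ⟨p, ?_⟩
    refine smul_left_injective K hw ?_
    show algebraMap F K p • G w = θ • G w
    rw [algebraMap_smul]; exact h
  intro c
  obtain ⟨a, b, rfl⟩ := hallθ c
  refine ⟨(a - b / r * p) • (1 : K) + (b / r) • θ, fun x => ?_⟩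
  have hc : a • (1 : K) + b • θ = (a - b / r * p) • (1 : K) + (b / r) • lam := by
    rw [hlamθ, smul_add, smul_smul, smul_smul, div_mul_cancel₀ b hr, sub_smul]; abel
  rw [hc]
  simp only [add_smul, smul_assoc, one_smul, mulVec_add, mulVec_smul]
  rw [show (g : Matrix ι ι F) *ᵥ (lam • x) = θ • (g : Matrix ι ι F) *ᵥ x from hgl x]

end Setting

end Cfsg.Agent.Lib.OmegaEight23.ExtTwo
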