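import Cfsg.Agent.Lib.OmegaEight23.ExtTwo.Lines
import Cfsg.Agent.Lib.Subspaces.OrthSingular

/-!
An overgroup in `Ω` of the linear isometries of the `K`-space with a non-semilinear element is `Ω`.
Eight-dimensional variant of `Lib/OrthExtTwo` (helper94). Owner: helper23.
-/

set_option autoImplicit false
set_option linter.unusedSectionVars false

namespace Cfsg.Agent.Lib.OmegaEight23.ExtTwo

open Matrix Module Cfsg.Agent.Lib.Subspaces.Transvection Cfsg.Agent.Lib.Subspaces.FormVec
  Cfsg.Agent.Lib.Subspaces.OrthForm Cfsg.Agent.Lib.Subspaces.OrthLines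
  Cfsg.Agent.Lib.Subspaces.OmegaGL Cfsg.Agent.Lib.Subspaces.OrthSingular

variable {ι : Type} [Fintype ι] [DecidableEq ι] {F K : Type*} [Field F] [Field K] [Algebra F K]
  [Module K (ι → F)] [IsScalarTower F K (ι → F)] [Finite F] [Finite K]

local notation "V" => (ι → F)

namespace Setting

variable (S : Setting F K ι)

/-- Two trace-zero scalars are proportional over `F`. -/
theorem exists_ratio (S : Setting F K ι) {x y : K} (hx : Algebra.trace F K x = 0)
    (hy : Algebra.trace F K y = 0) (hy0 : y ≠ 0) : ∃ c : F, x = c • y := by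
  obtain ⟨θ, htr, hθ, hall, -⟩ := S.exists_theta
  have key : ∀ z : K, Algebra.trace F K z = 0 → ∃ b : F, z = b • θ := by
    intro z hz
    obtain ⟨a, b, rfl⟩ := hall z
    rw [map_add, map_smul, map_smul, htr, smul_zero, add_zero, ← map_one (algebraMap F K),
      Algebra.trace_algebraMap, S.degree, two_nsmul, smul_eq_mul, ← two_mul, mul_one, mul_comm]
      at hz
    exact ⟨b, by rw [(mul_eq_zero.1 hz).resolve_left S.two, zero_smul, zero_add]⟩
  obtain ⟨b, rfl⟩ := key x hx
  obtain ⟨b', rfl⟩ := key y hy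
  have hb' : b' ≠ 0 := fun h => hy0 (by rw [h, zero_smul])
  exact ⟨b / b', by rw [smul_smul, div_mul_cancel₀ b hb']⟩

theorem B_of_h {x y : V} (h : S.h x y = 0) : QuadraticMap.polar S.Q x y = 0 := by
  rw [← S.trace, h, map_zero]

theorem refl_split {κ η : K} (hη : Algebra.trace F K η ≠ 0)
    (hκη : Algebra.trace F K (κ * η) = 0)
    (hκ2 : Algebra.trace F K (κ ^ 2 * η) = Algebra.trace F K η)
    (hall : ∀ c, ∃ a b : F, c = a • (1 : K) + b • κ) {v : V} (hv : S.h v v = η) (x : V) :
    (S.refl v : Matrix ι ι F) *ᵥ x = x - ((S.Q v)⁻¹ * QuadraticMap.polar S.Q x v) • v -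
      ((S.Q v)⁻¹ * QuadraticMap.polar S.Q x (κ • v)) • κ • v := by
  have hQv : 2 * S.Q v = Algebra.trace F K η := by rw [S.Q_eq, hv]
  have hQv0 : S.Q v ≠ 0 := fun h0 => hη (by rw [← hQv, h0, mul_zero])
  have hη0 : η ≠ 0 := fun h0 => hη (by rw [h0, map_zero])
  obtain ⟨a, b, hab⟩ := hall (S.h x v / η)
  have hxv : S.h x v = a • η + b • (κ * η) := by
    rw [← div_mul_cancel₀ (S.h x v) hη0, hab, add_mul, smul_mul_assoc, one_mul, smul_mul_assoc]
  have h1 : (S.Q v)⁻¹ * QuadraticMap.polar S.Q x v = 2 * a := by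
    rw [← S.trace, hxv, map_add, map_smul, map_smul, hκη, ← hQv, smul_zero, add_zero, smul_eq_mul]
    field_simp
  have h2 : (S.Q v)⁻¹ * QuadraticMap.polar S.Q x (κ • v) = 2 * b := by
    rw [← S.trace, map_smul, hxv, smul_eq_mul, mul_add, mul_smul_comm, mul_smul_comm, map_add,
      map_smul, map_smul, hκη, ← mul_assoc κ κ η, ← pow_two, hκ2, ← hQv, smul_zero, zero_add,
      smul_eq_mul]
    field_simp
  rw [refl_mulVec, hv, h1, h2, sub_sub, div_mul_eq_mul_div, mul_div_assoc, hab]
  congr 1
  simp only [← algebraMap_smul K (2 * a), ← algebraMap_smul K (2 * b), map_mul, map_ofNat,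
    ← algebraMap_smul K a, ← algebraMap_smul K b, smul_smul, mul_add, add_smul, mul_one, smul_eq_mul]
  module

theorem orth2 {a b : V} (h : S.h a b = 0) :
    ∀ p q, p ≠ q → S.h (![a, b] p) (![a, b] q) = 0 := fun p q hpq => by
  fin_cases p <;> fin_cases q <;> first
    | exact absurd rfl hpq
    | exact h
    | exact (S.symm _ _).trans h

theorem orth3 {a b c : V} (h1 : S.h a b = 0) (h2 : S.h a c = 0) (h3 : S.h b c = 0) :
    ∀ p q, p ≠ q → S.h (![a, b, c] p) (![a, b, c] q) = 0 := fun p q hpq => by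
  fin_cases p <;> fin_cases q <;> first
    | exact absurd rfl hpq
    | exact h1
    | exact h2
    | exact h3
    | exact (S.symm _ _).trans h1
    | exact (S.symm _ _).trans h2
    | exact (S.symm _ _).trans h3

variable {M : Subgroup (GL ι F)}

/-- One Siegel element at a trace-zero non-singular centre gives all of them. -/
theorem full_of (hMS : M ≤ Cfsg.Geo.omegaGL S.Q)
    (hlin : ∀ g ∈ Cfsg.Geo.omegaGL S.Q,
      (∀ (c : K) x, (g : Matrix ι ι F) *ᵥ (c • x) = c • (g : Matrix ι ι F) *ᵥ x) → g ∈ M)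
    {y l : V} (hy : Algebra.trace F K (S.h y y) = 0) (hy0 : S.h y y ≠ 0)
    (hly : QuadraticMap.polar S.Q l y = 0) (hl : S.Q l ≠ 0) (hmem : sieg S.Q y l ∈ M) :
    Full S.Q M y := by
  have hQy : S.Q y = 0 := S.Q_zero_of hy
  have hb := S.hQ.polar_bilinear
  have hd := S.dim
  have hyy : QuadraticMap.polar S.Q y y = 0 := by rw [B_self S.hQ, hQy, mul_zero]
  let P : V → Prop := fun w => QuadraticMap.polar S.Q w y = 0 ∧ sieg S.Q y w ∈ M
  have hzero : sieg S.Q y 0 = 1 := gl_ext fun x => by
    rw [sieg_mulVec S.hQ hQy (form_zero_left (bil S.hQ) _), Units.val_one, one_mulVec,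
      zero_right S.hQ, Q_zero S.hQ]
    simp
  have hP0 : P 0 := ⟨form_zero_left (bil S.hQ) _, hzero ▸ M.one_mem⟩
  have hPadd : ∀ {v w}, P v → P w → P (v + w) := fun {v w} hv hw =>
    ⟨by rw [hb.add_left, hv.1, hw.1, add_zero],
      by rw [sieg_add_right S.hQ hQy hv.1 hw.1]; exact M.mul_mem hv.2 hw.2⟩
  have hPneg : ∀ {v}, P v → P (-v) := fun {v} hv => by
    have h1 : QuadraticMap.polar S.Q (-v) y = 0 := by
      rw [← neg_one_smul F v, hb.smul_left, hv.1, mul_zero]
    refine ⟨h1, ?_⟩
    have h2 := sieg_add_right S.hQ hQy h1 hv.1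
    rw [neg_add_cancel, hzero] at h2
    rw [eq_inv_of_mul_eq_one_left h2.symm]
    exact M.inv_mem hv.2
  have hPline : ∀ t : F, P (t • y) := fun t => by
    refine ⟨by rw [hb.smul_left, hyy, mul_zero], ?_⟩
    have : sieg S.Q y (t • y) = 1 := gl_ext fun x => by
      rw [sieg_mulVec S.hQ hQy (by rw [hb.smul_left, hyy, mul_zero]), Units.val_one, one_mulVec,
        hb.smul_right, S.hQ.smul, hQy]
      module
    exact this ▸ M.one_mem
  have hPmove : ∀ {u w v : V}, P v → S.h u u = 0 → S.h u w = 0 → S.h w w ≠ 0 → S.h y u = 0 →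
      S.h y w = 0 → P (S.h v u • w - (S.h v w + S.h w w / 2 * S.h v u) • u) := by
    intro u w v hv hu huw hw hyu hyw
    have hn : S.eich u w ∈ M := hlin _ (S.eich_mem_omega u w) (S.eich_lin u w)
    have hfix : (S.eich u w : Matrix ι ι F) *ᵥ y = y := by
      rw [S.eich_mulVec hu huw hw, hyu, hyw]; simp
    have hiso := omega_isometry S.hQ (S.eich_mem_omega u w)
    have h1 : P ((S.eich u w : Matrix ι ι F) *ᵥ v) := by
      have h2 : QuadraticMap.polar S.Q ((S.eich u w : Matrix ι ι F) *ᵥ v) y = 0 := by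
        conv_lhs => rw [← hfix]
        rw [B_map hiso, hv.1]
      refine ⟨h2, ?_⟩
      have h3 := M.mul_mem (M.mul_mem hn hv.2) (M.inv_mem hn)
      rwa [conj_sieg S.hQ hiso hQy hv.1, hfix] at h3
    have h4 := hPadd h1 (hPneg hv)
    rw [S.eich_mulVec hu huw hw] at h4
    convert h4 using 1
    abel
  -- the component of `l` orthogonal to `y`
  obtain ⟨c, hc⟩ := S.exists_ratio (x := S.h l y) (by rw [S.trace, hly]) hy hy0
  set l0 := l + (-c) • y with hl0def
  have hPl0 : P l0 := hPadd ⟨hly, hmem⟩ (hPline _)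
  have hl0y : S.h l0 y = 0 := by
    rw [hl0def, ← algebraMap_smul K (-c), map_add, map_smul, LinearMap.add_apply,
      LinearMap.smul_apply, hc, smul_eq_mul, map_neg, Algebra.smul_def]
    ring
  have hQl0 : S.Q l0 = S.Q l := by rw [hl0def, Q_add_smul S.hQ, hQy, hly]; ring
  set H := S.h l0 l0 with hH
  have hH0 : H ≠ 0 := S.ne_zero_of_Q (hQl0 ▸ hl)
  have hyl0 : S.h y l0 = 0 := (S.symm y l0).trans hl0y
  have h2 := S.twoK
  -- one singular vector not orthogonal to `l0`, and an orthogonal basis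
  obtain ⟨u, hu1, -, hu⟩ := S.exists_value ![y, l0] (![] : Fin 0 → V)
    (S.orth2 hyl0)
    (fun p => by fin_cases p <;> assumption) (by omega) l0 0
  have huy : S.h u y = 0 := (hu1 0).trans hl0y
  have hul : S.h u l0 = H := hu1 1
  set x := u - l0 with hx
  have hxy : S.h x y = 0 := by simp [hx, huy, hl0y]
  have hxl : S.h x l0 = 0 := by rw [hx, map_sub, LinearMap.sub_apply, hul, sub_self]
  have hxx : S.h x x = -H := by
    simp only [hx, map_sub, LinearMap.sub_apply, hu, hul, S.symm l0 u, ← hH]; ring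
  have horth : ∀ p q, p ≠ q → S.h (![y, l0, x] p) (![y, l0, x] q) = 0 :=
    S.orth3 hyl0 ((S.symm y x).trans hxy) ((S.symm l0 x).trans hxl)
  have hne : ∀ p, S.h (![y, l0, x] p) (![y, l0, x] p) ≠ 0 := fun p => by
      fin_cases p
      · exact hy0
      · exact hH0
      · show S.h x x ≠ 0
        rw [hxx]; exact neg_ne_zero.2 hH0
  obtain ⟨w, hw, hw1, -⟩ := S.exists_aniso ![y, l0, x] (![] : Fin 0 → V) horth hne (by omega)
  have hwy : S.h w y = 0 := hw1 0
  have hwl : S.h w l0 = 0 := hw1 1
  have hwx : S.h w x = 0 := hw1 2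
  have hyw : S.h y w = 0 := (S.symm y w).trans hwy
  have hlw : S.h l0 w = 0 := (S.symm l0 w).trans hwl
  have hxw : S.h x w = 0 := (S.symm x w).trans hwx
  have hdir : ∀ v : V, S.h v v = 0 → S.h v y = 0 → S.h v l0 = H → S.h v w = 0 →
      ∀ e : K, P (e • v) ∧ P (e • w) := by
    intro v hv hvy hvl hvw
    have hmv : ∀ c : K, P ((c * H) • w - (c ^ 2 * (S.h w w * H / 2)) • v) := by
      intro c
      rcases eq_or_ne c 0 with rfl | hc0
      · simpa using hP0
      have h := hPmove (u := v) (w := c • w) hPl0 hv (by rw [map_smul, hvw, smul_zero])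
        (by rw [S.h_smul_self]; exact mul_ne_zero (pow_ne_zero 2 hc0) hw)
        ((S.symm y v).trans hvy) (by rw [map_smul, hyw, smul_zero])
      rw [map_smul, hlw, smul_zero, zero_add, S.h_smul_self, S.symm l0 v, hvl, smul_smul] at h
      convert h using 1
      match_scalars <;> ring
    have hPv : ∀ e : K, P (e • v) := by
      intro e
      have hD : S.h w w * H ≠ 0 := mul_ne_zero hw hH0
      have h := hPadd (hPadd (hmv (e / (S.h w w * H))) (hmv 1))
        (hPneg (hmv (e / (S.h w w * H) + 1)))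
      convert h using 1
      match_scalars <;> field_simp <;> ring
    intro e
    refine ⟨hPv e, ?_⟩
    have h := hPadd (hmv (e / H)) (hPv ((e / H) ^ 2 * (S.h w w * H / 2)))
    rwa [sub_add_cancel, div_mul_cancel₀ e hH0] at h
  have huw : S.h u w = 0 := by
    rw [show u = x + l0 by rw [hx]; abel, map_add, LinearMap.add_apply, hxw, hlw, add_zero]
  have hPu := fun e => (hdir u hu huy hul huw e).1
  have hPw := fun e => (hdir u hu huy hul huw e).2
  set u' := (2 : K) • l0 - u with hu'
  have hPu' := fun e => (hdir u'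
    (by
      simp only [hu', map_sub, map_smul, LinearMap.sub_apply, LinearMap.smul_apply, smul_eq_mul,
        hu, hul, S.symm l0 u, ← hH]
      ring)
    (by simp [hu', hl0y, huy])
    (by
      simp only [hu', map_sub, map_smul, LinearMap.sub_apply, LinearMap.smul_apply, smul_eq_mul,
        hul, ← hH]
      ring)
    (by simp [hu', hlw, huw]) e).1
  refine ⟨hQy, fun z hz => ?_⟩
  obtain ⟨t, ht⟩ := S.exists_ratio (x := S.h z y) (by rw [S.trace, hz]) hy hy0
  set z0 := z + (-t) • y with hz0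
  have hz0y : S.h z0 y = 0 := by
    rw [hz0, ← algebraMap_smul K (-t), map_add, map_smul, LinearMap.add_apply,
      LinearMap.smul_apply, ht, smul_eq_mul, map_neg, Algebra.smul_def]
    ring
  set p := S.h z0 l0 / H with hp
  set r := S.h z0 x / S.h x x with hr
  set t' := S.h z0 w / S.h w w with ht'
  have hres : z0 - (p • l0 + r • x + t' • w) = 0 := by
    have hxx0 : S.h x x ≠ 0 := by rw [hxx]; exact neg_ne_zero.2 hH0
    refine S.eq_zero_of_orth ![y, l0, x, w] (fun i j hij => ?_) (fun i => ?_) fun i => ?_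
    · fin_cases i <;> fin_cases j <;> first
        | exact absurd rfl hij
        | exact hyl0
        | exact hl0y
        | exact hxy
        | exact (S.symm _ _).trans hxy
        | exact hxl
        | exact (S.symm _ _).trans hxl
        | exact hwy
        | exact hyw
        | exact hwl
        | exact hlw
        | exact hwx
        | exact hxw
    · fin_cases i <;> assumption
    · have hlx : S.h l0 x = 0 := (S.symm l0 x).trans hxl
      fin_cases i
      · show S.h _ y = 0
        simp [hz0y, hl0y, hxy, hwy]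
      · show S.h _ l0 = 0
        simp [hxl, hwl, ← hH, hp, hH0]
      · show S.h _ x = 0
        simp [hlx, hwx, hr, hxx0]
      · show S.h _ w = 0
        simp [hlw, hxw, ht', hw]
  have h := hPadd (hPadd (hPadd (hPu ((p + r) / 2)) (hPu' ((p - r) / 2))) (hPw t')) (hPline t)
  have e : ((p + r) / 2) • u + ((p - r) / 2) • u' + t' • w + t • y = z := by
    have hz' : z = p • l0 + r • x + t' • w + t • y := by
      rw [← sub_eq_zero.1 hres, hz0]; module
    rw [hz', hu', hx]
    match_scalars <;> field_simp <;> ring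
  rw [e] at h
  exact h.2

/-- A non-semilinear element supplies one long root centre. -/
theorem exists_full (hMS : M ≤ Cfsg.Geo.omegaGL S.Q)
    (hlin : ∀ g ∈ Cfsg.Geo.omegaGL S.Q,
      (∀ (c : K) x, (g : Matrix ι ι F) *ᵥ (c • x) = c • (g : Matrix ι ι F) *ᵥ x) → g ∈ M)
    {g : GL ι F} (hgM : g ∈ M) (hns : ¬ Semi K g) :
    ∃ y, Algebra.trace F K (S.h y y) = 0 ∧ S.h y y ≠ 0 ∧ Full S.Q M y := by
  have hb := S.hQ.polar_bilinear
  have hd := S.dim
  obtain ⟨θ, htr, hθ, -, -⟩ := S.exists_theta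
  have hθ0 : θ ≠ 0 := fun h => hθ ⟨0, by rw [h, map_zero]⟩
  obtain ⟨κ, η, hη, hκη, hκ2, hall⟩ := S.exists_kappa
  have hη0 : η ≠ 0 := fun h0 => hη (by rw [h0, map_zero])
  obtain ⟨v, hv, hvl⟩ : ∃ v, S.h v v = η ∧ ∀ e : K,
      (g : Matrix ι ι F) *ᵥ (κ • v) ≠ e • (g : Matrix ι ι F) *ᵥ v := by
    by_contra h
    push Not at h
    exact hns (S.semi_of_lines hη0 hall g h)
  have hiso := omega_isometry S.hQ (hMS hgM)
  have hQv : 2 * S.Q v = Algebra.trace F K η := by rw [S.Q_eq, hv]
  set q := S.Q v with hq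
  have hq0 : q ≠ 0 := fun h0 => hη (by rw [← hQv, h0, mul_zero])
  have hQk : S.Q (κ • v) = q := mul_left_cancel₀ S.two (by rw [S.Q_eq, h_smul_self, hv, hκ2, hQv])
  have hBvk : QuadraticMap.polar S.Q v (κ • v) = 0 := by
    rw [← S.trace, map_smul, hv, smul_eq_mul, hκη]
  set a := (g : Matrix ι ι F) *ᵥ v with ha
  set l := (g : Matrix ι ι F) *ᵥ (κ • v) with hl
  have hQa : S.Q a = q := hiso v
  have hQl : S.Q l = q := (hiso _).trans hQk
  have hal : QuadraticMap.polar S.Q a l = 0 := by rw [ha, hl, B_map hiso, hBvk]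
  set s := g * S.refl v * g⁻¹ with hs
  have hsM : s ∈ M := M.mul_mem (M.mul_mem hgM (hlin _ (S.refl_mem_omega hη hκη hκ2 hall hv)
    (S.refl_lin v))) (M.inv_mem hgM)
  have hs' : ∀ x, (s : Matrix ι ι F) *ᵥ x = x - (q⁻¹ * QuadraticMap.polar S.Q x a) • a -
      (q⁻¹ * QuadraticMap.polar S.Q x l) • l := fun x => by
    have key : ∀ t, QuadraticMap.polar S.Q (((g⁻¹ : GL ι F) : Matrix ι ι F) *ᵥ x) t =
        QuadraticMap.polar S.Q x ((g : Matrix ι ι F) *ᵥ t) := fun t => by
      rw [← B_map hiso (((g⁻¹ : GL ι F) : Matrix ι ι F) *ᵥ x) t, gl_mulVec_inv]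
    rw [hs, gl_mul_mulVec, gl_mul_mulVec, S.refl_split hη hκη hκ2 hall hv, key, key, mulVec_sub,
      mulVec_sub, mulVec_smul, mulVec_smul, gl_mulVec_inv]
  -- move `l` inside the stabiliser of `a`
  set A := S.h a a with hA
  have hA0 : A ≠ 0 := S.ne_zero_of_Q (hQa ▸ hq0)
  set k := S.h l a / A with hk
  set m := l - k • a with hm
  have hma : S.h m a = 0 := by
    rw [hm, map_sub, map_smul, LinearMap.sub_apply, LinearMap.smul_apply, ← hA, smul_eq_mul, hk,
      div_mul_cancel₀ _ hA0, sub_self]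
  have hm' : ∀ e : K, m ≠ e • a := by
    intro e he
    exact hvl (e + k) (show l = (e + k) • a by rw [add_smul, ← he, hm, sub_add_cancel])
  have h2 := S.twoK
  have hlla : l = m + k • a := by rw [hm, sub_add_cancel]
  -- a trace-zero `y` and a linear element fixing `a` and moving `l` to `l + y`
  obtain ⟨y, n, hya, hym, hyy, hnΩ, hnlin, hna, hnm⟩ : ∃ (y : V) (n : GL ι F), S.h y a = 0 ∧
      S.h m y = -θ / 2 ∧ S.h y y = θ ∧ n ∈ Cfsg.Geo.omegaGL S.Q ∧
      (∀ (c : K) z, (n : Matrix ι ι F) *ᵥ (c • z) = c • (n : Matrix ι ι F) *ᵥ z) ∧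
      (n : Matrix ι ι F) *ᵥ a = a ∧ (n : Matrix ι ι F) *ᵥ m = m + y := by
    have single : ∀ y : V, S.h y a = 0 → S.h m y = -θ / 2 → S.h y y = θ →
        (S.refl y : Matrix ι ι F) *ᵥ a = a ∧ (S.refl y : Matrix ι ι F) *ᵥ m = m + y := by
      intro y hya hym hyy
      constructor
      · rw [refl_mulVec, S.symm a y, hya, mul_zero, zero_smul, sub_zero]
      · rw [refl_mulVec, hym, hyy, show 2 / θ * (-θ / 2) = (-1 : K) by field_simp, neg_one_smul,
          sub_neg_eq_add]
    have pair : ∀ y r : V, S.h y a = 0 → S.h m y = -θ / 2 → S.h y y = θ → S.h r a = 0 →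
        S.h r m = 0 → S.h r r = θ → ∃ (y : V) (n : GL ι F), S.h y a = 0 ∧ S.h m y = -θ / 2 ∧
          S.h y y = θ ∧ n ∈ Cfsg.Geo.omegaGL S.Q ∧
          (∀ (c : K) z, (n : Matrix ι ι F) *ᵥ (c • z) = c • (n : Matrix ι ι F) *ᵥ z) ∧
          (n : Matrix ι ι F) *ᵥ a = a ∧ (n : Matrix ι ι F) *ᵥ m = m + y := by
      intro y r hya hym hyy hra hrm hrr
      obtain ⟨r', hr'a, hr'm, hr'r, hd⟩ : ∃ r', S.h r' a = 0 ∧ S.h r' m = 0 ∧ S.h r' r' = θ ∧
          S.h (y - r') (y - r') ≠ 0 := by
        by_cases h1 : S.h (y - r) (y - r) = 0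
        swap
        · exact ⟨r, hra, hrm, hrr, h1⟩
        refine ⟨-r, by simp [hra], by simp [hrm], by simp [hrr], fun h3 => hθ0 ?_⟩
        simp only [sub_neg_eq_add, map_sub, map_add, LinearMap.sub_apply, LinearMap.add_apply,
          hyy, hrr, S.symm r y] at h1 h3
        refine (mul_eq_zero.1 (?_ : (2 * 2 : K) * θ = 0)).resolve_left (mul_ne_zero h2 h2)
        linear_combination h1 + h3
      refine ⟨y, S.refl y * S.refl r', hya, hym, hyy,
        S.refl_pair_mem_omega (hr'r.trans hyy.symm) (hyy ▸ hθ0) hd,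
        fun c z => by rw [gl_mul_mulVec, gl_mul_mulVec, refl_lin, refl_lin], ?_, ?_⟩
      · rw [gl_mul_mulVec, S.refl_mulVec r', S.symm a r', hr'a, mul_zero, zero_smul, sub_zero]
        exact (single y hya hym hyy).1
      · rw [gl_mul_mulVec, S.refl_mulVec r', S.symm m r', hr'm, mul_zero, zero_smul, sub_zero]
        exact (single y hya hym hyy).2
    by_cases hμ : S.h m m = 0
    · obtain ⟨u, hua, hum, hu⟩ := S.exists_pair hA0 hm' 0 1 0
        (Or.inr (by rw [mul_zero]; exact one_ne_zero))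
      set y := (-θ / 2) • u - m with hy
      have hya : S.h y a = 0 := by simp [hy, hua, hma]
      have hym : S.h m y = -θ / 2 := by
        rw [hy, map_sub, map_smul, S.symm m u, hum, hμ, smul_eq_mul, mul_one, sub_zero]
      have hyy : S.h y y = θ := by
        simp only [hy, map_sub, map_smul, LinearMap.sub_apply, LinearMap.smul_apply, smul_eq_mul,
          hu, hum, hμ, S.symm m u]
        field_simp; ring
      by_cases hsq : IsSquare θ
      swap
      · obtain ⟨hsa, hsm⟩ := single y hya hym hyy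
        refine ⟨y, S.refl y, hya, hym, hyy, ?_, S.refl_lin y, hsa, hsm⟩
        obtain ⟨c, hc⟩ : IsSquare (η / θ) := by
          have : Fintype K := Fintype.ofFinite K
          classical
          rw [← quadraticChar_one_iff_isSquare (div_ne_zero hη0 hθ0), div_eq_mul_inv, map_mul,
            quadraticChar_neg_one_iff_not_isSquare.mpr (not_square_of hη hκη hκ2 S),
            quadraticChar_neg_one_iff_not_isSquare.mpr
              (fun h => hsq (by simpa using h.inv))]
          norm_num
        have hc0 : c ≠ 0 := fun h => div_ne_zero hη0 hθ0 (by rw [hc, h, mul_zero])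
        rw [← S.refl_smul hc0 y]
        refine S.refl_mem_omega hη hκη hκ2 hall ?_
        rw [S.h_smul_self, hyy, pow_two, ← hc, div_mul_cancel₀ η hθ0]
      -- `θ` a square: an orthogonal vector of square value, as the type is minus
      have ham : S.h a m = 0 := (S.symm a m).trans hma
      have hau : S.h a u = 0 := (S.symm a u).trans hua
      have hmu : S.h m u = 1 := (S.symm m u).trans hum
      obtain ⟨w, hw, hw1, -⟩ := S.exists_aniso ![a, u + m, u - m] (![] : Fin 0 → V)
        (S.orth3 (by simp [hau, ham]) (by simp [hau, ham]) (by simp [hu, hum, hmu, hμ]))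
        (fun p => by
          fin_cases p
          · exact hA0
          · show S.h (u + m) (u + m) ≠ 0
            simp [hu, hum, hmu, hμ, one_add_one_eq_two, h2]
          · show S.h (u - m) (u - m) ≠ 0
            intro h
            simp [hu, hum, hmu, hμ] at h
            exact h2 (by linear_combination -h)) (by omega)
      have hwa : S.h w a = 0 := hw1 0
      have hwp : S.h w (u + m) = 0 := hw1 1
      have hwn : S.h w (u - m) = 0 := hw1 2
      rw [map_add] at hwp
      rw [map_sub] at hwn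
      have hwu : S.h w u = 0 := (mul_eq_zero.1
        (show (2 : K) * S.h w u = 0 by linear_combination hwp + hwn)).resolve_left h2
      have hwm : S.h w m = 0 := by linear_combination hwp - hwu
      have hAn : ¬ IsSquare A := by
        have h1 : Algebra.trace F K A = 2 * q := by rw [hA, ← S.Q_eq, hQa]
        have hla : S.h l a = k * A := by rw [hk, div_mul_cancel₀ _ hA0]
        refine not_square_of (k := k) (h1 ▸ mul_ne_zero S.two hq0) ?_ ?_ S
        · rw [← hla, S.trace, B_comm, hal]
        · have h3 : S.h l l = k ^ 2 * A := by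
            rw [hlla, S.h_add_self, S.h_smul_self, hμ, map_smul, hma, ← hA, smul_zero]
            ring
          rw [← h3, h1, ← S.Q_eq, hQl]
      have hwsq : IsSquare (S.h w w) := by
        by_contra hns'
        obtain ⟨c, hc⟩ : IsSquare (-(S.h w w) / A) := by
          have : Fintype K := Fintype.ofFinite K
          classical
          rw [← quadraticChar_one_iff_isSquare (div_ne_zero (neg_ne_zero.2 hw) hA0)]
          have hm1 : IsSquare (-1 : K) := by
            rw [FiniteField.isSquare_neg_one_iff,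
              show Fintype.card K = Nat.card F ^ 2 by
                rw [← Nat.card_eq_fintype_card, Module.natCard_eq_pow_finrank (K := F),
                  S.degree]]
            rcases Nat.even_or_odd (Nat.card F) with ⟨j, hj⟩ | ⟨j, hj⟩
            · rw [hj, show (j + j) ^ 2 = 4 * (j * j) by ring]; omega
            · rw [hj, show (2 * j + 1) ^ 2 = 4 * (j * j + j) + 1 by ring]; omega
          rw [div_eq_mul_inv, neg_eq_neg_one_mul, map_mul, map_mul,
            quadraticChar_one_iff_isSquare (neg_ne_zero.2 one_ne_zero) |>.2 hm1,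
            quadraticChar_neg_one_iff_not_isSquare.mpr hns',
            quadraticChar_neg_one_iff_not_isSquare.mpr
              (fun h => hAn (by simpa using h.inv))]
          norm_num
        set p := c • a + w with hp
        have hpp : S.h p p = 0 := by
          rw [hp, S.h_add_self, S.h_smul_self, ← hA, map_smul, LinearMap.smul_apply,
            S.symm a w, hwa, smul_zero, pow_two, ← hc, div_mul_cancel₀ _ hA0]
          ring
        have hpu : S.h p u = 0 := by simp [hp, hau, hwu]
        have hpm : S.h p m = 0 := by simp [hp, ham, hwm]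
        haveI : FiniteDimensional K V := Module.Finite.of_finite
        have hli : LinearIndependent K ![p, u] := by
          rw [LinearIndependent.pair_iff]
          intro s t hst
          have h1 := congrArg (fun z => S.h z m) hst
          simp [hpm, hum] at h1
          have h3 := congrArg (fun z => S.h z w) hst
          simp [hp, hau, hwa, h1, (S.symm u w).trans hwu, (S.symm a w).trans hwa] at h3
          exact ⟨h3.resolve_right hw, h1⟩
        refine S.minus ((Submodule.span K (Set.range ![p, u])).restrictScalars F) ?_ ?_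
        · intro z hz
          obtain ⟨c', rfl⟩ := (Submodule.mem_span_range_iff_exists_fun K).1 hz
          refine S.Q_zero_of ?_
          rw [Fin.sum_univ_two]
          simp [hpp, hpu, hu, (S.symm u p).trans hpu]
        · have h4 : finrank K (Submodule.span K (Set.range ![p, u])) = 2 := by
            rw [finrank_span_eq_card hli, Fintype.card_fin]
          have h5 := finrank_mul_finrank F K (Submodule.span K (Set.range ![p, u]))
          rw [S.degree, h4] at h5
          exact h5.symm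
      obtain ⟨z1, hz1⟩ := hwsq
      obtain ⟨s1, hs1⟩ := hsq
      have hz10 : z1 ≠ 0 := fun h => hw (by rw [hz1, h, mul_zero])
      refine pair y ((s1 / z1) • w) hya hym hyy (by simp [hwa]) (by simp [hwm]) ?_
      rw [S.h_smul_self, hz1, hs1]
      field_simp
    · have horth : ∀ p r, p ≠ r → S.h (![a, m] p) (![a, m] r) = 0 :=
        S.orth2 ((S.symm a m).trans hma)
      have hne : ∀ p, S.h (![a, m] p) (![a, m] p) ≠ 0 := fun p => by fin_cases p <;> assumption
      obtain ⟨y, hy1, -, hyy⟩ := S.exists_value ![a, m] (![] : Fin 0 → V) horth hne (by omega)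
        ((-θ / 2 / S.h m m) • m) θ
      obtain ⟨r, hr1, -, hrr⟩ := S.exists_value ![a, m] (![] : Fin 0 → V) horth hne (by omega) 0 θ
      refine pair y r ((hy1 0).trans ?_) ((S.symm m y).trans ((hy1 1).trans ?_)) hyy
        ((hr1 0).trans (by simp)) ((hr1 1).trans (by simp)) hrr
      · show S.h ((-θ / 2 / S.h m m) • m) a = 0
        rw [map_smul, LinearMap.smul_apply, hma, smul_zero]
      · show S.h ((-θ / 2 / S.h m m) • m) m = -θ / 2
        rw [map_smul, LinearMap.smul_apply, smul_eq_mul, div_mul_cancel₀ _ hμ]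
  have hnM : n ∈ M := hlin _ hnΩ hnlin
  have hnl : (n : Matrix ι ι F) *ᵥ l = l + y := by
    rw [hlla, mulVec_add, hnlin, hna, hnm]; abel
  have hyy0 : S.h y y ≠ 0 := by rw [hyy]; exact hθ0
  have htry : Algebra.trace F K (S.h y y) = 0 := by rw [hyy, htr]
  have hQy : S.Q y = 0 := S.Q_zero_of htry
  have hay : QuadraticMap.polar S.Q a y = 0 := S.B_of_h ((S.symm a y).trans hya)
  have hly : QuadraticMap.polar S.Q l y = 0 := by
    rw [← S.trace, hlla, map_add, map_smul, LinearMap.add_apply, LinearMap.smul_apply, hym,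
      S.symm a y, hya, smul_zero, add_zero, show -θ / 2 = (-(1 / 2) : F) • θ by
        rw [Algebra.smul_def, map_neg, map_div₀, map_one, map_ofNat]; ring, map_smul, htr,
      smul_zero]
  have hisoN := omega_isometry S.hQ hnΩ
  set s' := n * s * n⁻¹ with hs2
  have hs'' : ∀ x, (s' : Matrix ι ι F) *ᵥ x = x - (q⁻¹ * QuadraticMap.polar S.Q x a) • a -
      (q⁻¹ * QuadraticMap.polar S.Q x (l + y)) • (l + y) := fun x => by
    have key : ∀ t, QuadraticMap.polar S.Q (((n⁻¹ : GL ι F) : Matrix ι ι F) *ᵥ x) t =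
        QuadraticMap.polar S.Q x ((n : Matrix ι ι F) *ᵥ t) := fun t => by
      rw [← B_map hisoN (((n⁻¹ : GL ι F) : Matrix ι ι F) *ᵥ x) t, gl_mulVec_inv]
    rw [hs2, gl_mul_mulVec, gl_mul_mulVec, hs', key, key, mulVec_sub, mulVec_sub, mulVec_smul,
      mulVec_smul, gl_mulVec_inv, hna, hnl]
  have hwy : QuadraticMap.polar S.Q (q⁻¹ • l) y = 0 := by rw [hb.smul_left, hly, mul_zero]
  have heq : s * s' = sieg S.Q y (q⁻¹ • l) := gl_ext fun x => by
    rw [gl_mul_mulVec, hs'', hs', sieg_mulVec S.hQ hQy hwy, S.hQ.smul, hb.smul_right, hQl]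
    simp only [form_sub_left (bil S.hQ), hb.smul_left, hb.add_left, hb.add_right,
      B_self S.hQ, hQa, hQl, hal, B_comm l a, B_comm y a, hay, hly, B_comm y l]
    have hA : (algebraMap F K q) ≠ 0 := (_root_.map_ne_zero _).2 hq0
    match_scalars <;> (try simp only [map_ofNat]) <;> field_simp <;> ring
  refine ⟨y, htry, hyy0, S.full_of hMS hlin htry hyy0 hwy ?_ (heq ▸ M.mul_mem hsM
    (M.mul_mem (M.mul_mem hnM hsM) (M.inv_mem hnM)))⟩
  rw [S.hQ.smul, hQl]
  exact mul_ne_zero (pow_ne_zero 2 (inv_ne_zero hq0)) hq0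

/-- An overgroup with a non-semilinear element is `Ω`. -/
theorem omega_le_of_not_semi (hMS : M ≤ Cfsg.Geo.omegaGL S.Q)
    (hlin : ∀ g ∈ Cfsg.Geo.omegaGL S.Q,
      (∀ (c : K) x, (g : Matrix ι ι F) *ᵥ (c • x) = c • (g : Matrix ι ι F) *ᵥ x) → g ∈ M)
    {g : GL ι F} (hgM : g ∈ M) (hns : ¬ Semi K g) : Cfsg.Geo.omegaGL S.Q ≤ M := by
  have hb := S.hQ.polar_bilinear
  have hd := S.dim
  have hn5 : 5 ≤ Fintype.card ι := by have := S.card_ge; omega
  obtain ⟨y, hytr, hy0, hy⟩ := S.exists_full hMS hlin hgM hns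
  set H := S.h y y with hH
  -- a second centre, not orthogonal to the first
  obtain ⟨u, hu1, -, hu⟩ := S.exists_value ![y] (![] : Fin 0 → V)
    (fun p r h => absurd (Subsingleton.elim p r) h) (fun p => by fin_cases p; exact hy0)
    (by omega) (H⁻¹ • y) 0
  have huy : S.h u y = 1 := (hu1 0).trans (by
    show S.h (H⁻¹ • y) y = 1
    rw [map_smul, LinearMap.smul_apply, ← hH, smul_eq_mul, inv_mul_cancel₀ hy0])
  set x := u - H⁻¹ • y with hx
  have hxy : S.h x y = 0 := by
    rw [hx, map_sub, map_smul, LinearMap.sub_apply, LinearMap.smul_apply, huy, ← hH, smul_eq_mul,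
      inv_mul_cancel₀ hy0, sub_self]
  have hxx : S.h x x = -H⁻¹ := by
    simp only [hx, map_sub, map_smul, LinearMap.sub_apply, LinearMap.smul_apply, smul_eq_mul, hu,
      huy, S.symm y u, ← hH]
    field_simp; ring
  obtain ⟨w, hw1, -, hw⟩ := S.exists_value ![y, x] (![] : Fin 0 → V)
    (fun p r h => by fin_cases p <;> fin_cases r <;> simp_all [S.symm y x])
    (fun p => by
      fin_cases p
      · exact hy0
      · show S.h x x ≠ 0
        rw [hxx]; exact neg_ne_zero.2 (inv_ne_zero hy0)) (by omega) 0 2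
  have hwy : S.h w y = 0 := (hw1 0).trans (by simp)
  have hwx : S.h w x = 0 := (hw1 1).trans (by simp)
  have huw : S.h u w = 0 := by
    rw [show u = x + H⁻¹ • y by rw [hx, sub_add_cancel], map_add, map_smul, LinearMap.add_apply,
      LinearMap.smul_apply, S.symm x w, hwx, S.symm y w, hwy, smul_zero, add_zero]
  have hww : S.h w w ≠ 0 := by rw [hw]; exact S.twoK
  set n := S.eich u w with hn
  have hnM : n ∈ M := hlin _ (S.eich_mem_omega u w) (S.eich_lin u w)
  set y' := (n : Matrix ι ι F) *ᵥ y with hy'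
  have hy'F : Full S.Q M y' :=
    full_conj S.hQ hy hnM (omega_isometry S.hQ (S.eich_mem_omega u w))
  have hy'y : QuadraticMap.polar S.Q y' y = -2 := by
    have h2 := S.twoK
    rw [← S.trace, hy', hn, S.eich_mulVec hu huw hww, S.symm y w, hwy, S.symm y u, huy, hw]
    simp only [map_add, map_sub, map_smul, LinearMap.add_apply, LinearMap.sub_apply,
      LinearMap.smul_apply, smul_eq_mul, hwy, huy, ← hH]
    rw [mul_zero, map_zero, show (0 + 2 / 2 * 1) * 1 = (1 : K) by field_simp; ring, hytr,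
      ← map_one (algebraMap F K), Algebra.trace_algebraMap, S.degree, two_nsmul]
    ring
  have hmove : ∀ p r z, Full S.Q M p → Full S.Q M r → S.Q z = 0 →
      QuadraticMap.polar S.Q r p ≠ 0 → QuadraticMap.polar S.Q z p ≠ 0 → Full S.Q M z := by
    intro p r z hp hr hz hrp hzp
    have h := full_move S.hQ hp (full_smul S.hQ hr (QuadraticMap.polar S.Q r p)⁻¹)
      (z := (QuadraticMap.polar S.Q z p)⁻¹ • z) (by rw [S.hQ.smul, hz, mul_zero])
      (by rw [hb.smul_left, inv_mul_cancel₀ hrp]) (by rw [hb.smul_left, inv_mul_cancel₀ hzp])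
    have h' := full_smul S.hQ h (QuadraticMap.polar S.Q z p)
    rwa [smul_inv_smul₀ hzp] at h'
  have hyp : QuadraticMap.polar S.Q y' y ≠ 0 := by rw [hy'y]; exact neg_ne_zero.2 S.two
  have hyp' : QuadraticMap.polar S.Q y y' ≠ 0 := by rwa [B_comm]
  refine omega_le_of_full S.hQ hn5 fun z hz => ?_
  rcases eq_or_ne z 0 with rfl | hz0
  · simpa using full_smul S.hQ hy 0
  by_cases hzy : QuadraticMap.polar S.Q z y = 0
  swap
  · exact hmove y y' z hy hy'F hz hyp hzy
  by_cases hzy' : QuadraticMap.polar S.Q z y' = 0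
  swap
  · exact hmove y' y z hy'F hy hz hyp' hzy'
  have hyy : QuadraticMap.polar S.Q y y = 0 := by rw [B_self S.hQ, hy.1, mul_zero]
  have hyy' : QuadraticMap.polar S.Q y' y' = 0 := by rw [B_self S.hQ, hy'F.1, mul_zero]
  obtain ⟨t, ht, htz⟩ := dual S.hQ (S := Submodule.span F {y, y'}) (z := z) fun hm => by
    obtain ⟨p, r, hpr⟩ := Submodule.mem_span_pair.mp hm
    rw [← hpr, hb.add_left, hb.smul_left, hb.smul_left, hyy, mul_zero, zero_add] at hzy
    rw [← hpr, hb.add_left, hb.smul_left, hb.smul_left, hyy', mul_zero, add_zero] at hzy'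
    rw [(mul_eq_zero.1 hzy).resolve_right hyp, (mul_eq_zero.1 hzy').resolve_right hyp'] at hpr
    exact hz0 (by simpa using hpr.symm)
  set z1 := t + y' + (-S.Q (t + y') / QuadraticMap.polar S.Q y' y) • y with hz1
  have hty : QuadraticMap.polar S.Q t y = 0 := ht y (Submodule.subset_span (by simp))
  have h1y : QuadraticMap.polar S.Q z1 y = QuadraticMap.polar S.Q y' y := by
    rw [hz1, hb.add_left, hb.add_left, hb.smul_left, hty, hyy]; ring
  have h1z : QuadraticMap.polar S.Q z1 z = 1 := by
    rw [hz1, hb.add_left, hb.add_left, hb.smul_left, htz, B_comm y' z, hzy', B_comm y z, hzy]; ring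
  have h1Q : S.Q z1 = 0 := by
    rw [hz1, Q_add_smul S.hQ, hy.1, hb.add_left, hty]
    field_simp; ring
  have hz1F : Full S.Q M z1 := hmove y y' z1 hy hy'F h1Q hyp (by rw [h1y]; exact hyp)
  exact hmove z1 y z hz1F hy hz (by rw [B_comm, h1y]; exact hyp)
    (by rw [B_comm, h1z]; exact one_ne_zero)

/-- `Ω` has elements which are not semilinear. -/
theorem exists_not_semi : ∃ g ∈ Cfsg.Geo.omegaGL S.Q, ¬ Semi K g := by
  have hd := S.dim
  have hn5 : 5 ≤ Fintype.card ι := by have := S.card_ge; omega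
  obtain ⟨θ, htr, hθ, -, -⟩ := S.exists_theta
  have hθ0 : θ ≠ 0 := fun h => hθ ⟨0, by rw [h, map_zero]⟩
  obtain ⟨e, -, -, he⟩ := S.exists_value (![] : Fin 0 → V) (![] : Fin 0 → V) (fun p => p.elim0)
    (fun p => p.elim0) (by omega) 0 θ
  obtain ⟨w, hw1, -, hw⟩ := S.exists_value ![e] (![] : Fin 0 → V)
    (fun p r h => absurd (Subsingleton.elim p r) h)
    (fun p => by fin_cases p; show S.h e e ≠ 0; rw [he]; exact hθ0) (by omega) 0 1
  have hwe : S.h w e = 0 := (hw1 0).trans (by simp)
  have hew : S.h e w = 0 := (S.symm e w).trans hwe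
  obtain ⟨x, hx1, -, hx⟩ := S.exists_value ![e, w] (![] : Fin 0 → V)
    (fun p r h => by fin_cases p <;> fin_cases r <;> simp_all)
    (fun p => by
      fin_cases p
      · show S.h e e ≠ 0; rw [he]; exact hθ0
      · show S.h w w ≠ 0; rw [hw]; exact one_ne_zero) (by omega) 0 1
  have hxe : S.h x e = 0 := (hx1 0).trans (by simp)
  have hxw : S.h x w = 0 := (hx1 1).trans (by simp)
  have hx0 : x ≠ 0 := fun h => one_ne_zero (α := K) (by rw [← hx, h]; simp)
  have hQe : S.Q e = 0 := S.Q_zero_of (by rw [he, htr])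
  have hBwe : QuadraticMap.polar S.Q w e = 0 := S.B_of_h hwe
  have hQw : S.Q w = 1 := mul_left_cancel₀ S.two (by
    rw [S.Q_eq, hw, ← map_one (algebraMap F K), Algebra.trace_algebraMap, S.degree, two_nsmul,
      mul_one, one_add_one_eq_two])
  refine ⟨_, sieg_mem_omega S.hQ hn5 hQe hBwe, fun hsemi => ?_⟩
  obtain ⟨d, hd'⟩ := hsemi θ
  have hfix : ∀ z, S.h z e = 0 → S.h z w = 0 → (sieg S.Q e w : Matrix ι ι F) *ᵥ z = z := by
    intro z h1 h2
    rw [sieg_mulVec S.hQ hQe hBwe, S.B_of_h h1, S.B_of_h h2]; simp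
  have h1 := hd' x
  rw [hfix x hxe hxw, hfix _ (by simp [hxe]) (by simp [hxw])] at h1
  have hdθ : d = θ := (smul_left_injective K hx0 h1).symm
  have h2 := hd' w
  rw [sieg_mulVec S.hQ hQe hBwe, sieg_mulVec S.hQ hQe hBwe, hBwe, hdθ, B_self S.hQ w, hQw,
    show QuadraticMap.polar S.Q (θ • w) e = 0 from S.B_of_h (by simp [hwe]),
    show QuadraticMap.polar S.Q (θ • w) w = 0 by
      rw [← S.trace, map_smul, LinearMap.smul_apply, hw, smul_eq_mul, mul_one, htr]] at h2
  simp only [zero_smul, add_zero, mul_zero, mul_one, sub_zero, neg_zero, smul_add, left_eq_add,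
    smul_eq_zero, hθ0, false_or, neg_eq_zero, S.two] at h2
  exact hθ0 (by rw [← he, h2]; simp)

end Setting

end Cfsg.Agent.Lib.OmegaEight23.ExtTwo
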